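import Groth.Agent.CycLib.DivMap
import Mathlib.AlgebraicGeometry.OrderOfVanishing

/-!
# Orders of vanishing on open subschemes
-/

universe u

open AlgebraicGeometry CategoryTheory TopologicalSpace

set_option backward.isDefEq.respectTransparency false

namespace Groth.Agent.WDivX

theorem ordFrac_map {R R' K K' : Type u} [CommRing R] [CommRing R'] [Field K] [Field K'] [Algebra R K]
    [Algebra R' K'] [IsFractionRing R K] [IsFractionRing R' K'] [IsNoetherianRing R] [IsNoetherianRing R']
    [Ring.KrullDimLE 1 R] [Ring.KrullDimLE 1 R'] [IsDomain R] [IsDomain R']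
    (e : R ≃+* R') (φ : K →+* K') (hφ : ∀ a, φ (algebraMap R K a) = algebraMap R' K' (e a)) (f : K) :
    Ring.ordFrac R' (φ f) = Ring.ordFrac R f := by
  obtain ⟨a, b, hb, rfl⟩ := IsFractionRing.div_surjective (A := R) f
  have key : ∀ c : R, c ≠ 0 → Ring.ordFrac R' (φ (algebraMap R K c)) = Ring.ordFrac R (algebraMap R K c) := by
    intro c hc
    have hc' : e c ≠ 0 := by simpa using hc
    rw [hφ, Ring.ordFrac_eq_ord (R := R') hc', Ring.ordFrac_eq_ord (R := R) hc,
      Ring.ordMonoidWithZeroHom_eq_ord (mem_nonZeroDivisors_iff_ne_zero.2 hc'),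
      Ring.ordMonoidWithZeroHom_eq_ord (mem_nonZeroDivisors_iff_ne_zero.2 hc), CycLib.ord_ringEquiv]
  rcases eq_or_ne a 0 with rfl | ha
  · simp
  rw [map_div₀, map_div₀, map_div₀, key a ha, key b (nonZeroDivisors.ne_zero hb)]

variable {U X : Scheme.{u}} [IsIntegral U] [IsIntegral X] (j : U ⟶ X) [IsOpenImmersion j]

/-- The isomorphism of function fields along a dominant open immersion. -/
noncomputable def ffMap : X.functionField ⟶ U.functionField :=
  X.presheaf.stalkSpecializes (specializes_of_eq (genericPoint_eq_of_isOpenImmersion j)) ≫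
    j.stalkMap (genericPoint U)

theorem ffMap_bijective : Function.Bijective (ffMap j).hom := by
  have : IsIso (ffMap j) := by
    rw [ffMap]
    have e := genericPoint_eq_of_isOpenImmersion j
    haveI : IsIso (X.presheaf.stalkSpecializes (specializes_of_eq e)) :=
      ⟨X.presheaf.stalkSpecializes (specializes_of_eq e.symm),
        by rw [TopCat.Presheaf.stalkSpecializes_comp]; exact TopCat.Presheaf.stalkSpecializes_refl _ _,
        by rw [TopCat.Presheaf.stalkSpecializes_comp]; exact TopCat.Presheaf.stalkSpecializes_refl _ _⟩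
    infer_instance
  exact ConcreteCategory.bijective_of_isIso (ffMap j)

variable [IsLocallyNoetherian X] [IsLocallyNoetherian U]

theorem ord_ffMap (f : X.functionField) (u : U) :
    Scheme.ord ((ffMap j).hom f) u = Scheme.ord f (j u) := by
  have hc : Order.coheight (j u) = Order.coheight u := coheight_eq_of_isOpenImmersion j
  by_cases hu : Order.coheight u = 1
  · haveI := krullDimLE_of_coheight_le (n := 1) hu.le
    haveI := krullDimLE_of_coheight_le (n := 1) (hc.trans hu).le
    rw [Scheme.ord_eq_ordHom_of_coheight_eq_one hu, Scheme.ord_eq_ordHom_of_coheight_eq_one (hc.trans hu)]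
    congr 2
    refine ordFrac_map (asIso (j.stalkMap u)).commRingCatIsoToRingEquiv (ffMap j).hom (fun a => ?_) f
    have h := congrArg (fun m : X.presheaf.stalk (j u) ⟶ U.functionField => m.hom a)
      (j.stalkSpecializes_stalkMap (genericPoint U) u ((genericPoint_spec U).specializes trivial))
    refine Eq.trans ?_ h.symm.symm
    change (X.presheaf.stalkSpecializes _ ≫ (X.presheaf.stalkSpecializes _ ≫ j.stalkMap _)).hom a = _
    rw [TopCat.Presheaf.stalkSpecializes_comp_assoc]
  · rw [Scheme.ord_eq_zero_of_coheight_neq_one hu, Scheme.ord_eq_zero_of_coheight_neq_one (hc ▸ hu)]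

theorem exists_ord_eq (g : U.functionField) (hg : g ≠ 0) :
    ∃ f : X.functionField, f ≠ 0 ∧ ∀ u : U, Scheme.ord g u = Scheme.ord f (j u) := by
  obtain ⟨f, rfl⟩ := (ffMap_bijective j).2 g
  exact ⟨f, fun h => hg (by rw [h, map_zero]), fun u => ord_ffMap j f u⟩

theorem ord_iff_of_codim (hcod : ∀ x : X, x ∉ j.opensRange → 2 ≤ Order.coheight x) (D : X → ℤ) :
    (∃ f : X.functionField, f ≠ 0 ∧ ∀ x : X, Order.coheight x = 1 → Scheme.ord f x = D x) ↔
      ∃ g : U.functionField, g ≠ 0 ∧ ∀ u : U, Order.coheight u = 1 → Scheme.ord g u = D (j u) := by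
  constructor
  · rintro ⟨f, hf, h⟩
    refine ⟨(ffMap j).hom f, fun h0 => hf ((ffMap_bijective j).1 (h0.trans (map_zero _).symm)), fun u hu => ?_⟩
    rw [ord_ffMap]
    exact h _ ((coheight_eq_of_isOpenImmersion j).trans hu)
  · rintro ⟨g, hg, h⟩
    obtain ⟨f, hf, hfg⟩ := exists_ord_eq j g hg
    refine ⟨f, hf, fun x hx => ?_⟩
    by_cases hxU : x ∈ j.opensRange
    · obtain ⟨u, rfl⟩ := hxU
      rw [← hfg]
      exact h u ((coheight_eq_of_isOpenImmersion j).symm.trans hx)
    · have := hcod x hxU
      rw [hx] at this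
      exact absurd this (by decide)

end Groth.Agent.WDivX
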